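import Groth.Agent.L22.Hyper.Subst
import Groth.Agent.L22.ZeroScheme
import Groth.Agent.L18.ClosedSub
import Groth.Agent.L16.ProjSpace.Sections
import Groth.Agent.L16.ProjSpace.PosFrames
import Groth.Agent.L16.ProjSpace.SerreVanishing

/-!
A hyperplane of projective space is a projective space.
-/

set_option autoImplicit false
set_option backward.isDefEq.respectTransparency false
set_option linter.style.haveILetI false
universe u

open CategoryTheory CategoryTheory.Limits AlgebraicGeometry TopologicalSpace Opposite MvPolynomial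

noncomputable section

namespace Groth.L22.Hyper

open Groth.L18.Frame (rs ro rs_rs ro_ro rs_smul pull pull_rs pull_smul IsFrame)
open Groth.L18.GenLoc (secOf homOfSection_secOf)
open Groth.L16
open Groth.L18.ClosedSub (sec)
open scoped Classical

variable {k : Type u} [Field k] {n : ℕ}

/-- `O(1)`. -/
abbrev O1 (n : ℕ) (k : Type u) [Field k] : (CohB1.ProjSpace n k).Modules :=
  Twist.twist (CohB1.polyGrading n k) ((1 : ℕ) : ℤ)

/-- The chart `D₊(X j)`. -/
abbrev U (n : ℕ) (k : Type u) [Field k] (j : Fin (n + 1)) : (CohB1.ProjSpace n k).Opens :=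
  Proj.basicOpen (CohB1.polyGrading n k) (X j)

/-- The variable as a degree one form. -/
abbrev Xf (n : ℕ) (k : Type u) [Field k] (j : Fin (n + 1)) : CohB1.polyGrading n k 1 :=
  ⟨X j, ProjSpace.X_mem n k j⟩

theorem isAffineOpen_U (j : Fin (n + 1)) : IsAffineOpen (U n k j) :=
  Proj.isAffineOpen_basicOpen _ _ (ProjSpace.X_mem n k j) one_pos

theorem rs_globalOf (f : CohB1.polyGrading n k 1) (j : Fin (n + 1)) :
    rs (O1 n k) (le_top : U n k j ≤ ⊤) (Twist.globalOf (CohB1.polyGrading n k) f) =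
      ProjTwist.ratio (CohB1.polyGrading n k) f (Xf n k j) •
        ProjTwist.posFrame (CohB1.polyGrading n k) 1 (Xf n k j) := by
  let 𝒜 := CohB1.polyGrading n k
  refine Subtype.ext (funext fun x => Subtype.ext ?_)
  refine Eq.trans ?_ (Twist.coe_smul_val _ x.1
    ((show Twist.O (𝒜 := 𝒜) (op (Proj.basicOpen 𝒜 (X j) : Opens (ProjectiveSpectrum.top 𝒜))) from
      ProjTwist.ratio 𝒜 f (Xf n k j)).1 x) _).symm
  have hr := ProjTwist.ratio_val 𝒜 f (Xf n k j) (Proj.basicOpen 𝒜 (X j)) le_rfl x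
  rw [show ro (X := Proj 𝒜) (le_rfl : Proj.basicOpen 𝒜 (X j) ≤ _) (ProjTwist.ratio 𝒜 f (Xf n k j)) =
    ProjTwist.ratio 𝒜 f (Xf n k j) from Groth.L18.Frame.ro_self _ _] at hr
  change (Localization.mk f.1 ⟨1, ProjTwist.one_notMem 𝒜 x.1⟩ : Twist.Loc 𝒜 x.1) = _ *
    Localization.mk ((X j) ^ 1) ⟨1, ProjTwist.one_notMem 𝒜 x.1⟩
  erw [hr]
  rw [Localization.mk_mul, Localization.mk_eq_mk_iff, Localization.r_iff_exists]
  exact ⟨1, by simp; ring⟩

theorem idealOn_eq_span {X : Scheme.{u}} {L : X.Modules} (s : Coh.structureModule X ⟶ L) {V : X.Opens}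
    {e : Γ(L, V)} (he : IsFrame L V e) {r : Γ(X, V)} (hr : rs L (le_top : V ≤ ⊤) (secOf s) = r • e) :
    Groth.L22.ZeroScheme.idealOn s V = Ideal.span {r} := by
  ext a
  rw [Groth.L22.ZeroScheme.mem_idealOn_iff, Ideal.mem_span_singleton', hr]
  constructor
  · intro h
    obtain ⟨b, hb⟩ := h e
    refine ⟨b, he.inj le_rfl ?_⟩
    rw [Groth.L18.Frame.rs_self, hb, smul_smul]
  · rintro ⟨b, rfl⟩ m
    obtain ⟨c, hc⟩ := he.exists_coeff le_rfl m
    rw [Groth.L18.Frame.rs_self] at hc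
    refine ⟨b * c, ?_⟩
    rw [← hc, smul_smul, smul_smul]
    ring_nf

theorem map_irr (f : MvPolynomial (Fin (n + 2)) k) (j₀ : Fin (n + 2)) :
    HomogeneousIdeal.irrelevant (CohB1.polyGrading n k) ≤
      (HomogeneousIdeal.irrelevant (CohB1.polyGrading (n + 1) k)).map (substGr f j₀) :=
  substGr_irrelevant f j₀

/-- The morphism `ℙⁿ ⟶ ℙⁿ⁺¹`. -/
def hypMap (f : MvPolynomial (Fin (n + 2)) k) (j₀ : Fin (n + 2)) :
    CohB1.ProjSpace n k ⟶ CohB1.ProjSpace (n + 1) k :=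
  Proj.map (substGr f j₀) (map_irr f j₀)

theorem hypMap_app_ratio (f : MvPolynomial (Fin (n + 2)) k) (j₀ : Fin (n + 2))
    (g h : CohB1.polyGrading (n + 1) k 1) :
    (hypMap f j₀).app (Proj.basicOpen (CohB1.polyGrading (n + 1) k) h.1)
        (ProjTwist.ratio (CohB1.polyGrading (n + 1) k) g h) =
      ProjTwist.ratio (CohB1.polyGrading n k) ⟨substGr f j₀ g.1, (substGr f j₀).2 g.2⟩
        ⟨substGr f j₀ h.1, (substGr f j₀).2 h.2⟩ := by
  have e := ConcreteCategory.congr_hom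
    (Proj.awayToSection_comp_appLE (substGr f j₀) (map_irr f j₀) h.2)
    (HomogeneousLocalization.Away.mk (CohB1.polyGrading (n + 1) k) h.2 1 g.1 (by simp))
  refine Eq.trans ?_ (e.trans ?_)
  · exact congrArg (fun q : Γ(CohB1.ProjSpace (n + 1) k, Proj.basicOpen (CohB1.polyGrading (n + 1) k) h.1) ⟶
        Γ(CohB1.ProjSpace n k, hypMap f j₀ ⁻¹ᵁ Proj.basicOpen (CohB1.polyGrading (n + 1) k) h.1) =>
        q (ProjTwist.ratio (CohB1.polyGrading (n + 1) k) g h)) (hypMap f j₀).app_eq_appLE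
  · exact congrArg (Proj.awayToSection (CohB1.polyGrading n k) _) (HomogeneousLocalization.Away.map_mk _ _ _ _ _ _)

/-- `O(1)` pulls back to `O(1)`. -/
theorem nonempty_pullback_O1 (f : MvPolynomial (Fin (n + 2)) k) (j₀ : Fin (n + 2)) :
    Nonempty ((Scheme.Modules.pullback (hypMap f j₀)).obj (O1 (n + 1) k) ≅ O1 n k) := by
  let 𝒜 := CohB1.polyGrading (n + 1) k
  let ℬ := CohB1.polyGrading n k
  let F : ULift.{u} (Fin (n + 2)) → 𝒜 1 := fun i => Xf (n + 1) k i.down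
  let F' : ULift.{u} (Fin (n + 2)) → ℬ 1 := fun i => ⟨substGr f j₀ (F i).1, (substGr f j₀).2 (F i).2⟩
  let g := hypMap f j₀
  let L := O1 (n + 1) k
  have hcov : ∀ x : CohB1.ProjSpace n k, ∃ i, x ∈ g ⁻¹ᵁ Proj.basicOpen 𝒜 (F i).1 := fun x => by
    obtain ⟨i, hi⟩ := ProjSpace.exists_mem_basicOpen_X (n + 1) k (g x)
    exact ⟨⟨i⟩, hi⟩
  refine FrameIso.nonempty_iso (fun i => g ⁻¹ᵁ Proj.basicOpen 𝒜 (F i).1)
    (fun i => pull g L _ (ProjTwist.posFrame 𝒜 1 (F i)))
    (fun i => (ProjTwist.isFrame_posFrame 𝒜 1 (F i)).pullback g L) hcov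
    (fun i j => ro inf_le_right (g.app _ (ProjTwist.ratio 𝒜 (F i) (F j))) ^ 1) (fun i j => ?_)
    (fun i => ProjTwist.posFrame ℬ 1 (F' i))
    (fun i => ProjTwist.isFrame_posFrame ℬ 1 (F' i)) (fun i j => ?_)
  · exact ProjSpace.pull_rel g L _ 1 _ _ (ProjTwist.posFrame_rel 𝒜 1 (F i) (F j))
  · refine (ProjTwist.posFrame_rel ℬ 1 (F' i) (F' j)).trans (congrArg (· • _) ?_)
    exact congrArg (fun r => ro inf_le_right r ^ 1) (hypMap_app_ratio f j₀ (F i) (F j)).symm

theorem subst_eq_zero_iff {f : CohB1.polyGrading (n + 1) k 1} {j₀ : Fin (n + 2)}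
    (hj : f.1.coeff (Finsupp.single j₀ 1) ≠ 0) {s : Coh.structureModule (CohB1.ProjSpace (n + 1) k) ⟶ O1 (n + 1) k}
    (hs : secOf s = Twist.globalOf (CohB1.polyGrading (n + 1) k) f) (d : ℕ) (F : MvPolynomial (Fin (n + 2)) k)
    (hF : F ∈ CohB1.polyGrading (n + 1) k d) :
    substGr f.1 j₀ F = 0 ↔
      Groth.L18.ClosedSub.Vanish (CohB1.polyGrading (n + 1) k) (PicF2.zeroScheme _ s).subschemeι
        (Finset.univ.image (X : Fin (n + 2) → MvPolynomial (Fin (n + 2)) k)) d F := by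
  classical
  let 𝒜 := CohB1.polyGrading (n + 1) k
  have hI : ∀ (j : Fin (n + 2)) (a : Γ(CohB1.ProjSpace (n + 1) k, U (n + 1) k j)),
      (PicF2.zeroScheme _ s).subschemeι.app (U (n + 1) k j) a = 0 ↔
        a ∈ Ideal.span {ProjTwist.ratio 𝒜 f (Xf (n + 1) k j)} := fun j a => by
    rw [← idealOn_eq_span s (ProjTwist.isFrame_posFrame 𝒜 1 (Xf (n + 1) k j))
      (by rw [hs]; exact rs_globalOf f j),
      ← Groth.L22.ZeroScheme.zeroScheme_ideal (ProjTwist.isInvertible_twistProjSpace (n + 1) k ((1 : ℕ) : ℤ)) s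
        ⟨U (n + 1) k j, isAffineOpen_U j⟩]
    exact (SetLike.ext_iff.1 ((PicF2.zeroScheme _ s).ker_subschemeι_app ⟨U (n + 1) k j, isAffineOpen_U j⟩) a)
  constructor
  · intro h t ht' ht hF'
    obtain ⟨j, -, rfl⟩ := Finset.mem_image.1 ht'
    refine (hI j _).2 ?_
    rcases exists_eq_mul f.2 hj hF h with ⟨rfl, rfl⟩ | ⟨e, G, rfl, hG, rfl⟩
    · rw [Groth.L18.ClosedSub.sec_zero]
      exact Submodule.zero_mem _
    · rw [Groth.L18.ClosedSub.sec_mul ht f.2 hG (by omega)]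
      exact Ideal.mul_mem_right _ _ (Ideal.subset_span rfl)
  · intro h
    obtain ⟨i⟩ : Nonempty (Fin (n + 1)) := inferInstance
    have ht : X (j₀.succAbove i) ∈ 𝒜 1 := ProjSpace.X_mem (n + 1) k _
    have hv := (hI (j₀.succAbove i) _).1 (h _ (Finset.mem_image.2 ⟨_, Finset.mem_univ _, rfl⟩) ht hF)
    obtain ⟨b, hb⟩ := Ideal.mem_span_singleton'.1 hv
    obtain ⟨y, rfl⟩ := ((ConcreteCategory.isIso_iff_bijective (Proj.awayToSection 𝒜 (X (j₀.succAbove i)))).mp
      (Proj.basicOpenIsoAway 𝒜 _ ht one_pos).isIso_hom).2 b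
    obtain ⟨m, c, hc, rfl⟩ := HomogeneousLocalization.Away.mk_surjective 𝒜 ht y
    have hc' : c ∈ 𝒜 m := by simpa using hc
    have hb' : sec 𝒜 ht c hc' * sec 𝒜 ht f.1 f.2 = sec 𝒜 ht F hF := hb
    rw [← Groth.L18.ClosedSub.sec_mul ht hc' f.2 rfl (SetLike.mul_mem_graded hc' f.2)] at hb'
    have hb2 := congrArg HomogeneousLocalization.val (((ConcreteCategory.isIso_iff_bijective
      (Proj.awayToSection 𝒜 (X (j₀.succAbove i)))).mp (Proj.basicOpenIsoAway 𝒜 _ ht one_pos).isIso_hom).1 hb')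
    rw [HomogeneousLocalization.Away.val_mk, HomogeneousLocalization.Away.val_mk, Localization.mk_eq_mk_iff,
      Localization.r_iff_exists] at hb2
    obtain ⟨⟨_, p, rfl⟩, hp⟩ := hb2
    have hne : substGr f.1 j₀ (X (j₀.succAbove i)) ≠ 0 := by
      rw [substGr_apply, subst_X_succAbove]
      exact X_ne_zero i
    have h0 := congrArg (substGr f.1 j₀) hp
    simp only [map_mul, map_pow] at h0
    rw [show substGr f.1 j₀ f.1 = 0 from subst_self f.2 hj] at h0
    simp only [mul_zero] at h0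
    simpa [hne] using h0.symm

/-- A hyperplane is a projective space, compatibly with `O(1)`. -/
theorem exists_iso (s : Coh.structureModule (CohB1.ProjSpace (n + 1) k) ⟶ O1 (n + 1) k) (hs : s ≠ 0) :
    ∃ φ : CohB1.ProjSpace n k ≅ (PicF2.zeroScheme _ s).subscheme,
      Nonempty ((Scheme.Modules.pullback (φ.hom ≫ (PicF2.zeroScheme _ s).subschemeι)).obj (O1 (n + 1) k) ≅
        O1 n k) := by
  classical
  obtain ⟨f, hf⟩ := ProjSpace.polyToSection_surjective (n := n + 1) (R := k) 1 (secOf s)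
  have hf0 : f.1 ≠ 0 := fun h0 => hs <| by
    have : f = 0 := Subtype.ext h0
    subst this
    rw [← homOfSection_secOf s, ← homOfSection_secOf (0 : Coh.structureModule _ ⟶ O1 (n + 1) k), ← hf]
    refine congrArg (Groth.L16.homOfSection (O1 (n + 1) k)) ?_
    refine Subtype.ext (funext fun x => Subtype.ext ?_)
    exact Localization.mk_zero _
  obtain ⟨j₀, hj⟩ := exists_coeff_ne_zero f.2 hf0
  let Z := PicF2.zeroScheme _ s
  obtain ⟨e, he⟩ := Groth.L18.ClosedSub.exists_iso Z.subschemeι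
    (Finset.univ.image (X : Fin (n + 2) → MvPolynomial (Fin (n + 2)) k))
    (fun g hg => by obtain ⟨j, -, rfl⟩ := Finset.mem_image.1 hg; exact ProjSpace.X_mem (n + 1) k j)
    ((ProjSpace.irrelevant_le_span (n + 1) k).trans (le_of_eq (by simp)))
    (substGr f.1 j₀) (substGr_surjective f.1 j₀) (map_irr f.1 j₀)
    (subst_eq_zero_iff hj hf.symm)
  refine ⟨e.symm, ?_⟩
  obtain ⟨p⟩ := nonempty_pullback_O1 f.1 j₀
  have h : e.symm.hom ≫ Z.subschemeι = hypMap f.1 j₀ := by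
    rw [← he]; simp [hypMap]
  exact ⟨(Scheme.Modules.pullbackCongr h).app _ ≪≫ p⟩

end Groth.L22.Hyper
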