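import Groth.Agent.L16.ProjSpace.Basic
import Mathlib.RingTheory.Ideal.Quotient.Operations
import Mathlib.RingTheory.MvPolynomial.Homogeneous
import Mathlib.AlgebraicGeometry.ProjectiveSpectrum.Functor

/-!
The quotient of a polynomial ring by a linear form is a polynomial ring.
-/

set_option autoImplicit false
universe u

open MvPolynomial

noncomputable section

namespace Groth.L22.Hyper

variable {k : Type u} [Field k] {n : ℕ}

/-- The forms of degree `d`. -/
abbrev P (n : ℕ) (k : Type u) [Field k] (d : ℕ) := CohB1.polyGrading n k d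

theorem exists_coeff_ne_zero {f : MvPolynomial (Fin (n + 2)) k} (hf : f ∈ P (n + 1) k 1) (hne : f ≠ 0) :
    ∃ j, f.coeff (Finsupp.single j 1) ≠ 0 := by
  obtain ⟨m, hm⟩ := ne_zero_iff.1 hne
  have h1 : m.degree = 1 := by
    have h := (mem_homogeneousSubmodule 1 f).1 hf hm
    rwa [Finsupp.degree_eq_weight_one]
  obtain ⟨j, hj⟩ : ∃ j, m = Finsupp.single j 1 := by
    have hne : m ≠ 0 := fun h => by simp [h] at h1
    obtain ⟨j, hj⟩ := Finsupp.support_nonempty_iff.2 hne
    refine ⟨j, Finsupp.ext fun i => ?_⟩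
    have hsum : ∑ i ∈ m.support, m i = 1 := h1
    have hjle : m j ≤ 1 := hsum ▸ Finset.single_le_sum (f := fun i => m i) (fun _ _ => Nat.zero_le _) hj
    have hjpos : m j ≠ 0 := Finsupp.mem_support_iff.1 hj
    rcases eq_or_ne i j with rfl | hij
    · simp; omega
    · rw [Finsupp.single_eq_of_ne hij]
      by_contra hi
      have hi' : i ∈ m.support := Finsupp.mem_support_iff.2 hi
      have hpair : m i + m j ≤ 1 := by
        rw [← hsum, ← Finset.sum_pair hij]
        exact Finset.sum_le_sum_of_subset (by simp [Finset.insert_subset_iff, hi', hj])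
      omega
  exact ⟨j, hj ▸ hm⟩

theorem eq_sum_linear {f : MvPolynomial (Fin (n + 2)) k} (hf : f ∈ P (n + 1) k 1) :
    f = ∑ i, C (f.coeff (Finsupp.single i 1)) * X i := by
  ext m
  rw [coeff_sum]
  by_cases hm : ∃ j, m = Finsupp.single j 1
  · obtain ⟨j, rfl⟩ := hm
    rw [Finset.sum_eq_single j]
    · simp
    · intro i _ hij
      rw [coeff_C_mul, coeff_X', if_neg (fun h => hij ((Finsupp.single_left_injective one_ne_zero) h)), mul_zero]
    · simp
  · rw [Finset.sum_eq_zero fun i _ => by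
      rw [coeff_C_mul, coeff_X', if_neg (fun h => hm ⟨i, h.symm⟩), mul_zero]]
    by_contra h
    have h1 : m.degree = 1 := by
      rw [Finsupp.degree_eq_weight_one]
      exact (mem_homogeneousSubmodule 1 f).1 hf h
    obtain ⟨j, hj⟩ := exists_coeff_ne_zero (f := monomial m (1 : k))
      ((mem_homogeneousSubmodule 1 _).2 (isHomogeneous_monomial _ h1)) (by simp)
    rw [coeff_monomial] at hj
    split_ifs at hj with he
    · exact hm ⟨j, he⟩
    · exact hj rfl

/-- Substitution eliminating the variable `j₀` by the equation `f = 0`. -/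
def subst (f : MvPolynomial (Fin (n + 2)) k) (j₀ : Fin (n + 2)) :
    MvPolynomial (Fin (n + 2)) k →ₐ[k] MvPolynomial (Fin (n + 1)) k :=
  aeval (Fin.insertNth (α := fun _ => MvPolynomial (Fin (n + 1)) k) j₀
    (-(C (f.coeff (Finsupp.single j₀ 1))⁻¹ * ∑ i, C (f.coeff (Finsupp.single (j₀.succAbove i) 1)) * X i)) X)

theorem subst_X_succAbove (f : MvPolynomial (Fin (n + 2)) k) (j₀ : Fin (n + 2)) (i : Fin (n + 1)) :
    subst f j₀ (X (j₀.succAbove i)) = X i := by
  rw [subst, aeval_X, Fin.insertNth_apply_succAbove]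

theorem subst_self {f : MvPolynomial (Fin (n + 2)) k} (hf : f ∈ P (n + 1) k 1) {j₀ : Fin (n + 2)}
    (hj : f.coeff (Finsupp.single j₀ 1) ≠ 0) : subst f j₀ f = 0 := by
  conv_lhs => enter [2]; rw [eq_sum_linear hf]
  rw [map_sum, Fin.sum_univ_succAbove _ j₀]
  simp only [map_mul, subst_X_succAbove]
  rw [subst, aeval_X, Fin.insertNth_apply_same]
  simp only [aeval_C, MvPolynomial.algebraMap_eq]
  rw [mul_neg, ← mul_assoc, ← C_mul, mul_inv_cancel₀ hj, C_1, one_mul, neg_add_cancel]

theorem mem_subst (f : MvPolynomial (Fin (n + 2)) k) (j₀ : Fin (n + 2)) {d : ℕ}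
    {F : MvPolynomial (Fin (n + 2)) k} (hF : F ∈ P (n + 1) k d) : subst f j₀ F ∈ P n k d := by
  refine (mem_homogeneousSubmodule d _).2 ?_
  rw [show d = 1 * d by omega]
  refine IsHomogeneous.aeval ((mem_homogeneousSubmodule d _).1 hF) _ (fun i => ?_)
  rcases Fin.eq_self_or_eq_succAbove j₀ i with rfl | ⟨i, rfl⟩
  · rw [Fin.insertNth_apply_same]
    refine IsHomogeneous.neg ?_
    exact IsHomogeneous.C_mul (IsHomogeneous.sum _ _ _ fun l _ => IsHomogeneous.C_mul (isHomogeneous_X k l) _) _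
  · rw [Fin.insertNth_apply_succAbove]
    exact isHomogeneous_X k i

/-- The graded substitution. -/
def substGr (f : MvPolynomial (Fin (n + 2)) k) (j₀ : Fin (n + 2)) :
    CohB1.polyGrading (n + 1) k →+*ᵍ CohB1.polyGrading n k :=
  { (subst f j₀).toRingHom with map_mem := fun {_ _} h => mem_subst f j₀ h }

theorem substGr_apply (f : MvPolynomial (Fin (n + 2)) k) (j₀ : Fin (n + 2)) (p : MvPolynomial (Fin (n + 2)) k) :
    substGr f j₀ p = subst f j₀ p := rfl

theorem substGr_surjective (f : MvPolynomial (Fin (n + 2)) k) (j₀ : Fin (n + 2)) :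
    Function.Surjective (substGr f j₀) := fun p => by
  refine ⟨rename j₀.succAbove p, ?_⟩
  rw [substGr_apply, subst, aeval_rename]
  have h : Fin.insertNth (α := fun _ => MvPolynomial (Fin (n + 1)) k) j₀
    (-(C (f.coeff (Finsupp.single j₀ 1))⁻¹ * ∑ i, C (f.coeff (Finsupp.single (j₀.succAbove i) 1)) * X i)) X ∘
      j₀.succAbove = X := funext fun i => Fin.insertNth_apply_succAbove _ _ _ _
  rw [h, aeval_X_left_apply]

theorem substGr_irrelevant (f : MvPolynomial (Fin (n + 2)) k) (j₀ : Fin (n + 2)) :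
    HomogeneousIdeal.irrelevant (CohB1.polyGrading n k) ≤
      (HomogeneousIdeal.irrelevant (CohB1.polyGrading (n + 1) k)).map (substGr f j₀) := by
  show (HomogeneousIdeal.irrelevant (CohB1.polyGrading n k)).toIdeal ≤
    ((HomogeneousIdeal.irrelevant (CohB1.polyGrading (n + 1) k)).map (substGr f j₀)).toIdeal
  refine (Groth.L16.ProjSpace.irrelevant_le_span n k).trans (Ideal.span_le.2 ?_)
  rintro _ ⟨i, rfl⟩
  rw [← subst_X_succAbove f j₀ i, ← substGr_apply]
  exact Ideal.mem_map_of_mem _ (HomogeneousIdeal.mem_irrelevant_of_mem _ one_pos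
    (Groth.L16.ProjSpace.X_mem (n + 1) k _))

theorem exists_eq_mul {f : MvPolynomial (Fin (n + 2)) k} (hf : f ∈ P (n + 1) k 1) {j₀ : Fin (n + 2)}
    (hj : f.coeff (Finsupp.single j₀ 1) ≠ 0) {d : ℕ} {F : MvPolynomial (Fin (n + 2)) k}
    (hF : F ∈ P (n + 1) k d) (h : subst f j₀ F = 0) :
    (d = 0 ∧ F = 0) ∨ ∃ (e : ℕ) (G : MvPolynomial (Fin (n + 2)) k), d = e + 1 ∧ G ∈ P (n + 1) k e ∧ F = f * G := by
  let I : Ideal (MvPolynomial (Fin (n + 2)) k) := Ideal.span {f}
  let sec : MvPolynomial (Fin (n + 1)) k →ₐ[k] MvPolynomial (Fin (n + 2)) k := rename j₀.succAbove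
  have key : ((Ideal.Quotient.mkₐ k I).comp (sec.comp (subst f j₀))) = Ideal.Quotient.mkₐ k I := by
    refine algHom_ext fun i => ?_
    rcases Fin.eq_self_or_eq_succAbove j₀ i with rfl | ⟨i, rfl⟩
    · show Ideal.Quotient.mk I (sec (subst f i (X i))) = Ideal.Quotient.mk I (X i)
      rw [Ideal.Quotient.eq, Ideal.mem_span_singleton]
      refine ⟨-C (f.coeff (Finsupp.single i 1))⁻¹, ?_⟩
      conv_rhs => enter [1]; rw [eq_sum_linear hf]
      rw [Fin.sum_univ_succAbove _ i, subst, aeval_X, Fin.insertNth_apply_same]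
      simp only [sec, map_neg, map_mul, map_sum, rename_C, rename_X]
      have hc : C (f.coeff (Finsupp.single i 1)) * C (f.coeff (Finsupp.single i 1))⁻¹ = (1 : MvPolynomial (Fin (n + 2)) k) := by
        rw [← C_mul, mul_inv_cancel₀ hj, C_1]
      linear_combination X i * hc
    · show Ideal.Quotient.mk I (sec (subst f j₀ (X _))) = _
      rw [subst_X_succAbove]
      simp [sec]
  have hmem : F ∈ I := by
    rw [← Ideal.Quotient.eq_zero_iff_mem]
    have h1 := AlgHom.congr_fun key F
    simp only [AlgHom.comp_apply, h, map_zero] at h1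
    exact h1.symm
  obtain ⟨G, rfl⟩ := Ideal.mem_span_singleton.1 hmem
  rcases Nat.eq_zero_or_pos d with rfl | hd
  · left
    refine ⟨rfl, ?_⟩
    have h0 := (totalDegree_zero_iff_isHomogeneous (p := f * G)).2 ((mem_homogeneousSubmodule 0 _).1 hF)
    rw [totalDegree_eq_zero_iff_eq_C] at h0
    rw [h0] at h ⊢
    rw [subst, aeval_C, MvPolynomial.algebraMap_eq] at h
    rw [C_eq_zero.1 h, C_0]
  · right
    refine ⟨d - 1, homogeneousComponent (d - 1) G, by omega,
      (mem_homogeneousSubmodule _ _).2 (homogeneousComponent_isHomogeneous _ _), ?_⟩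
    have h1 := DirectSum.coe_decompose_mul_of_left_mem (CohB1.polyGrading (n + 1) k) d (b := G) hf
    rw [if_pos (show 1 ≤ d by omega), DirectSum.decompose_of_mem_same _ hF] at h1
    rw [h1]
    exact congrArg (f * ·) (MvPolynomial.decomposition.decompose'_apply G _)

end Groth.L22.Hyper
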